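import Mathlib
import Groth.Agent.Lib.Helper6.GrHt.LemK
import Groth.Agent.Lib.Helper6.GrHt.QuotGrading
import Groth.Agent.Lib.Helper6.GrHt.ZCase

set_option autoImplicit false
set_option linter.unusedSectionVars false
set_option linter.unusedVariables false
set_option linter.unusedSimpArgs false
set_option linter.style.haveILetI false
set_option maxHeartbeats 400000

/-!
# A non-homogeneous prime of a `ℤ`-graded ring is principal modulo its core, up to homogeneous
denominators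
-/

universe u

namespace Groth.Agent.Lib.Helper6.BassNG

open Groth.Agent.Lib.Helper6.GrHt

section Dom

variable {D : Type u} [CommRing D] [IsDomain D] (𝒟 : ℤ → AddSubgroup D) [GradedRing 𝒟]

/-- Euclidean division by an element of minimal width in an ideal without nonzero homogeneous
elements. -/
theorem exists_div_of_min_width (P : Ideal D) (hP : P ≠ ⊥) :
    ∃ f ∈ P, f ≠ 0 ∧ ∀ g ∈ P, ∃ (s Q : D) (i : ℤ), s ≠ 0 ∧ s ∈ 𝒟 i ∧ s * g = Q * f := by
  obtain ⟨f, hfp, hf0, hfmin⟩ := exists_min_width 𝒟 P hP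
  refine ⟨f, hfp, hf0, ?_⟩
  intro g hg
  by_cases hg0 : g = 0
  · exact ⟨1, 0, 0, one_ne_zero, SetLike.GradedOne.one_mem, by rw [hg0]; ring⟩
  have hwg := width_nonneg 𝒟 hg0
  obtain ⟨s, Q, r, i, hs0, hsi, heq, hr⟩ :=
    pseudo_div 𝒟 hf0 (width 𝒟 g).toNat g (Or.inr (by omega))
  refine ⟨s, Q, i, hs0, hsi, ?_⟩
  have hrp : r ∈ P := by
    have : r = s * g - Q * f := by rw [heq]; ring
    rw [this]
    exact P.sub_mem (P.mul_mem_left _ hg) (P.mul_mem_left _ hfp)
  by_cases hr0 : r = 0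
  · rw [heq, hr0, add_zero]
  · exfalso
    have hrlt : width 𝒟 r < width 𝒟 f := hr.resolve_left hr0
    have := hfmin r hrp hr0
    omega

end Dom

section Ring

variable {R : Type u} [CommRing R] (ℬ : ℤ → AddSubgroup R) [GradedRing ℬ]

/-- **A non-homogeneous prime `p` is `p* + (a)` up to homogeneous denominators.** -/
theorem exists_gen_mod_core (p : Ideal R) [hp : p.IsPrime] (hne : core ℬ p ≠ p) :
    ∃ a ∈ p, a ∉ core ℬ p ∧ ∀ g ∈ p, ∃ (s c : R) (i : ℤ), s ∈ ℬ i ∧ s ∉ core ℬ p ∧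
      s * g - c * a ∈ core ℬ p := by
  set q := core ℬ p with hq
  have hqhom : q.IsHomogeneous ℬ := core_isHomogeneous ℬ p
  haveI hqprime : q.IsPrime := core_isPrime ℬ p
  have hqp : q ≤ p := core_le ℬ p
  letI := quotGradedRing ℬ q hqhom
  haveI : IsDomain (R ⧸ q) := Ideal.Quotient.isDomain q
  set P : Ideal (R ⧸ q) := p.map (Ideal.Quotient.mk q) with hPdef
  have hmemP : ∀ x : R, Ideal.Quotient.mk q x ∈ P ↔ x ∈ p := fun x =>
    Ideal.mem_quotient_iff_mem hqp
  have hP : P ≠ ⊥ := by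
    intro hbot
    apply hne
    apply le_antisymm hqp
    intro x hx
    have : Ideal.Quotient.mk q x ∈ P := (hmemP x).mpr hx
    rw [hbot, Ideal.mem_bot, Ideal.Quotient.eq_zero_iff_mem] at this
    exact this
  obtain ⟨f, hfP, hf0, hdiv⟩ := exists_div_of_min_width (quotGrading ℬ q) P hP
  obtain ⟨a, rfl⟩ := Ideal.Quotient.mk_surjective f
  refine ⟨a, (hmemP a).mp hfP, fun haq => hf0 (Ideal.Quotient.eq_zero_iff_mem.mpr haq), ?_⟩
  intro g hg
  obtain ⟨s', Q', i, hs0, hsi, heq⟩ := hdiv _ ((hmemP g).mpr hg)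
  obtain ⟨s, hs, rfl⟩ := (mem_quotGrading ℬ q).mp hsi
  obtain ⟨c, rfl⟩ := Ideal.Quotient.mk_surjective Q'
  refine ⟨s, c, i, hs, fun hsq => hs0 (Ideal.Quotient.eq_zero_iff_mem.mpr hsq), ?_⟩
  rw [← Ideal.Quotient.eq_zero_iff_mem, map_sub, map_mul, map_mul, heq, sub_self]

end Ring

end Groth.Agent.Lib.Helper6.BassNG
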