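import Mathlib
import Groth.Agent.Lib.Helper6.GrDim.GDb
import Groth.Agent.Lib.Helper6.Bass0.BZb

set_option autoImplicit false
set_option linter.unusedSectionVars false
set_option linter.unusedVariables false
set_option linter.unusedSimpArgs false
set_option linter.style.haveILetI false
set_option maxHeartbeats 400000

/-!
# A homogeneous "basis up to homogeneous denominators" of the `q`-torsion of a graded module

For a homogeneous prime `q` and a graded module `X`, the submodule `(0 :_X q)` is a graded module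
over the graded domain `R/q`; it contains a family of homogeneous elements which is independent
modulo `q` and spans up to homogeneous denominators outside `q`.
-/

universe u

namespace Groth.Agent.Lib.Helper6.BassNG

open DirectSum

variable {ι : Type*} [AddCommGroup ι] [DecidableEq ι] {R : Type u} [CommRing R]
  (𝒜 : ι → AddSubgroup R) [GradedRing 𝒜] {X : Type u} [AddCommGroup X] [Module R X]
  (𝒳 : ι → AddSubgroup X) [DirectSum.Decomposition 𝒳] [SetLike.GradedSMul 𝒜 𝒳]
  (q : Ideal R)

/-- homogeneous elements killed by `q` -/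
def HK : Set X := {x | (∃ g, x ∈ 𝒳 g) ∧ ∀ a ∈ q, a • x = 0}

/-- independence modulo `q` of a set of elements -/
def QInd (S : Set X) : Prop :=
  ∀ l : X →₀ R, (l.support : Set X) ⊆ S →
    Finsupp.linearCombination R (id : X → X) l = 0 → ∀ x, l x ∈ q

theorem exists_maximal_qInd :
    ∃ S : Set X, Maximal (fun S => S ⊆ HK 𝒳 q ∧ QInd q S) S := by
  apply zorn_subset {S : Set X | S ⊆ HK 𝒳 q ∧ QInd q S}
  intro c hc hchain
  by_cases hne : c.Nonempty
  · refine ⟨⋃₀ c, ⟨Set.sUnion_subset (fun s hs => (hc hs).1), ?_⟩,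
      fun s hs => Set.subset_sUnion_of_mem hs⟩
    intro l hl hsum x
    obtain ⟨T, hT, hlT⟩ := hchain.directedOn.exists_mem_subset_of_finite_of_subset_sUnion hne
      l.support.finite_toSet hl
    exact (hc hT).2 l hlT hsum x
  · refine ⟨∅, ⟨Set.empty_subset _, ?_⟩, fun s hs => absurd ⟨s, hs⟩ hne⟩
    intro l hl _ x
    have : l = 0 := by
      rw [← Finsupp.support_eq_empty]
      exact Finset.coe_eq_empty.mp (Set.subset_empty_iff.mp hl)
    rw [this]
    exact q.zero_mem

variable {q}

/-- components of an element killed by a homogeneous ideal are killed by it -/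
theorem smul_decompose_eq_zero (hq : q.IsHomogeneous 𝒜) {x : X} (hx : ∀ a ∈ q, a • x = 0)
    (g : ι) : ∀ a ∈ q, a • (decompose 𝒳 x g : X) = 0 := by
  classical
  intro a ha
  rw [← DirectSum.sum_support_decompose 𝒜 a, Finset.sum_smul]
  apply Finset.sum_eq_zero
  intro e _
  have hae : (decompose 𝒜 a e : R) ∈ q := hq e ha
  have h := Bass0.decompose_homog_smul 𝒜 𝒳 (decompose 𝒜 a e).2 x g
  rw [← h, hx _ hae, decompose_zero]
  rfl

/-- spanning property of a maximal `q`-independent set of homogeneous elements: homogeneous case -/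
theorem exists_smul_eq_of_maximal_homog [hqp : q.IsPrime] (hq : q.IsHomogeneous 𝒜) {S : Set X}
    (hS : Maximal (fun S => S ⊆ HK 𝒳 q ∧ QInd q S) S) {x : X} (hx : x ∈ HK 𝒳 q) :
    ∃ s : R, (∃ i, s ∈ 𝒜 i) ∧ s ∉ q ∧ ∃ l : X →₀ R, (l.support : Set X) ⊆ S ∧
      s • x = Finsupp.linearCombination R (id : X → X) l := by
  classical
  have h1q : (1 : R) ∉ q := (Ideal.ne_top_iff_one q).mp hqp.ne_top
  by_cases hxS : x ∈ S
  · refine ⟨1, ⟨0, SetLike.GradedOne.one_mem⟩, h1q, Finsupp.single x 1, ?_, ?_⟩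
    · intro y hy
      have := Finsupp.support_single_subset hy
      rw [Finset.mem_singleton.mp this]
      exact hxS
    · rw [Finsupp.linearCombination_single, one_smul, one_smul, id]
  -- `insert x S` is not `q`-independent
  have hnot : ¬ QInd q (insert x S) := by
    intro h
    exact hxS (hS.2 ⟨Set.insert_subset hx hS.1.1, h⟩ (Set.subset_insert x S)
      (Set.mem_insert x S))
  unfold QInd at hnot
  push Not at hnot
  obtain ⟨l, hl, hsum, x₀, hx₀⟩ := hnot
  set r := l x with hr
  set l' := l.erase x with hl'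
  have hl'S : (l'.support : Set X) ⊆ S := by
    intro y hy
    rw [hl', Finsupp.support_erase, Finset.coe_erase] at hy
    rcases hl hy.1 with h | h
    · exact absurd h hy.2
    · exact h
  have hdecomp : r • x + Finsupp.linearCombination R (id : X → X) l' = 0 := by
    have : l = Finsupp.single x r + l' := (Finsupp.single_add_erase x l).symm
    rw [this, map_add, Finsupp.linearCombination_single] at hsum
    exact hsum
  have hrq : r ∉ q := by
    intro hrq
    rw [hx.2 r hrq, zero_add] at hdecomp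
    have hall := hS.1.2 l' hl'S hdecomp
    apply hx₀
    by_cases hxx : x₀ = x
    · rw [hxx]
      exact hrq
    · have : l x₀ = l' x₀ := by rw [hl', Finsupp.erase_ne hxx]
      rw [this]
      exact hall x₀
  -- a component of `r` outside `q`
  obtain ⟨d, hd⟩ : ∃ d, (decompose 𝒜 r d : R) ∉ q := by
    by_contra hcon
    push Not at hcon
    apply hrq
    rw [← DirectSum.sum_support_decompose 𝒜 r]
    exact q.sum_mem (fun e _ => hcon e)
  obtain ⟨gx, hgx⟩ := hx.1
  -- degrees of the elements of `S`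
  let degf : X → ι := fun y => if h : ∃ g, y ∈ 𝒳 g then h.choose else 0
  have hdegf : ∀ y ∈ S, y ∈ 𝒳 (degf y) := by
    intro y hy
    have h : ∃ g, y ∈ 𝒳 g := (hS.1.1 hy).1
    simp only [degf, dif_pos h]
    exact h.choose_spec
  let l'' : X →₀ R := Finsupp.onFinset l'.support
    (fun y => -(decompose 𝒜 (l' y) (d + gx - degf y) : R))
    (by
      intro y hy
      by_contra hns
      rw [Finsupp.notMem_support_iff] at hns
      apply hy
      rw [hns, decompose_zero]
      simp)
  refine ⟨(decompose 𝒜 r d : R), ⟨d, (decompose 𝒜 r d).2⟩, hd, l'', ?_, ?_⟩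
  · intro y hy
    exact hl'S (Finsupp.support_onFinset_subset hy)
  · -- take the component of degree `d + gx`
    have hcomp := congrArg (fun z => ((decompose 𝒳 z) (d + gx) : X)) hdecomp
    simp only at hcomp
    rw [decompose_add, DirectSum.add_apply, AddSubgroup.coe_add, decompose_zero,
      GrDim.decompose_smul_of_mem 𝒜 𝒳 hgx r d] at hcomp
    have hzero : ((0 : ⨁ i, 𝒳 i) (d + gx) : X) = 0 := rfl
    rw [hzero] at hcomp
    rw [Finsupp.linearCombination_apply, Finsupp.sum_of_support_subset l''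
      Finsupp.support_onFinset_subset _ (fun y _ => zero_smul R (id y))]
    rw [Finsupp.linearCombination_apply, Finsupp.sum, decompose_sum, DFinsupp.finsetSum_apply,
      AddSubmonoidClass.coe_finsetSum] at hcomp
    rw [eq_neg_of_add_eq_zero_left hcomp, ← Finset.sum_neg_distrib]
    apply Finset.sum_congr rfl
    intro y hy
    have hyS : y ∈ S := hl'S hy
    have h := GrDim.decompose_smul_of_mem 𝒜 𝒳 (hdegf y hyS) (l' y) (d + gx - degf y)
    rw [sub_add_cancel] at h
    show -((decompose 𝒳 (l' y • id y)) (d + gx) : X) = l'' y • id y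
    rw [id, h, Finsupp.onFinset_apply, neg_smul]

/-- spanning property: general case -/
theorem exists_smul_eq_of_maximal [hqp : q.IsPrime] (hq : q.IsHomogeneous 𝒜) {S : Set X}
    (hS : Maximal (fun S => S ⊆ HK 𝒳 q ∧ QInd q S) S) {x : X} (hx : ∀ a ∈ q, a • x = 0) :
    ∃ s : R, (∃ i, s ∈ 𝒜 i) ∧ s ∉ q ∧ ∃ l : X →₀ R, (l.support : Set X) ⊆ S ∧
      s • x = Finsupp.linearCombination R (id : X → X) l := by
  classical
  have h1q : (1 : R) ∉ q := (Ideal.ne_top_iff_one q).mp hqp.ne_top
  -- the property is stable under finite sums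
  let W : X → Prop := fun z => ∃ s : R, (∃ i, s ∈ 𝒜 i) ∧ s ∉ q ∧ ∃ l : X →₀ R,
    (l.support : Set X) ⊆ S ∧ s • z = Finsupp.linearCombination R (id : X → X) l
  have hW0 : W 0 := ⟨1, ⟨0, SetLike.GradedOne.one_mem⟩, h1q, 0, by simp, by simp⟩
  have hWadd : ∀ z₁ z₂, W z₁ → W z₂ → W (z₁ + z₂) := by
    rintro z₁ z₂ ⟨s₁, ⟨i₁, hs₁⟩, hs₁q, l₁, hl₁, h₁⟩ ⟨s₂, ⟨i₂, hs₂⟩, hs₂q, l₂, hl₂, h₂⟩
    refine ⟨s₁ * s₂, ⟨i₁ + i₂, SetLike.GradedMul.mul_mem hs₁ hs₂⟩,
      fun h => (hqp.mem_or_mem h).elim hs₁q hs₂q, s₂ • l₁ + s₁ • l₂, ?_, ?_⟩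
    · intro y hy
      rcases Finset.mem_union.mp (Finsupp.support_add hy) with h | h
      · exact hl₁ (Finsupp.support_smul h)
      · exact hl₂ (Finsupp.support_smul h)
    · rw [map_add, map_smul, map_smul, ← h₁, ← h₂, smul_add, ← mul_smul, ← mul_smul,
        mul_comm s₂ s₁]
  have hWsum : ∀ (t : Finset ι) (z : ι → X), (∀ g ∈ t, W (z g)) → W (∑ g ∈ t, z g) := by
    intro t z
    induction t using Finset.induction_on with
    | empty => intro _; rw [Finset.sum_empty]; exact hW0
    | insert g t hg ih =>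
      intro h
      rw [Finset.sum_insert hg]
      exact hWadd _ _ (h g (Finset.mem_insert_self g t))
        (ih (fun g' hg' => h g' (Finset.mem_insert_of_mem hg')))
  have := hWsum (decompose 𝒳 x).support (fun g => (decompose 𝒳 x g : X)) (fun g _ =>
    exists_smul_eq_of_maximal_homog 𝒜 𝒳 hq hS
      ⟨⟨g, (decompose 𝒳 x g).2⟩, smul_decompose_eq_zero 𝒜 𝒳 hq hx g⟩)
  rw [DirectSum.sum_support_decompose 𝒳 x] at this
  exact this

/-- **Existence of a homogeneous `q`-basis up to homogeneous denominators.** -/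
theorem exists_qBasis [hqp : q.IsPrime] (hq : q.IsHomogeneous 𝒜) :
    ∃ (Λ : Type u) (y : Λ → X), (∀ i, ∃ g, y i ∈ 𝒳 g) ∧ (∀ i, ∀ a ∈ q, a • y i = 0) ∧
      (∀ r : Λ →₀ R, Finsupp.linearCombination R y r = 0 → ∀ i, r i ∈ q) ∧
      (∀ x : X, (∀ a ∈ q, a • x = 0) → ∃ s : R, (∃ i, s ∈ 𝒜 i) ∧ s ∉ q ∧
        ∃ r : Λ →₀ R, s • x = Finsupp.linearCombination R y r) := by
  classical
  obtain ⟨S, hS⟩ := exists_maximal_qInd 𝒳 q
  refine ⟨S, Subtype.val, fun i => (hS.1.1 i.2).1, fun i => (hS.1.1 i.2).2, ?_, ?_⟩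
  · intro r hr i
    have h1 : ((r.mapDomain Subtype.val).support : Set X) ⊆ S := by
      intro y hy
      obtain ⟨z, _, rfl⟩ := Finset.mem_image.mp (Finsupp.mapDomain_support hy)
      exact z.2
    have h2 : Finsupp.linearCombination R (id : X → X) (r.mapDomain Subtype.val) = 0 := by
      rw [Finsupp.linearCombination_mapDomain]
      exact hr
    have := hS.1.2 _ h1 h2 i.1
    rwa [Finsupp.mapDomain_apply Subtype.val_injective] at this
  · intro x hx
    obtain ⟨s, hs, hsq, l, hl, hsl⟩ := exists_smul_eq_of_maximal 𝒜 𝒳 hq hS hx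
    refine ⟨s, hs, hsq, l.subtypeDomain (· ∈ S), ?_⟩
    rw [hsl, Finsupp.linearCombination_apply, Finsupp.linearCombination_apply]
    exact (Finsupp.sum_subtypeDomain_index (p := (· ∈ S)) (h := fun a b => b • a)
      (fun y hy => hl hy)).symm

end Groth.Agent.Lib.Helper6.BassNG
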