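import Mathlib

set_option autoImplicit false
set_option linter.unusedSectionVars false
set_option linter.unusedVariables false
set_option linter.unusedSimpArgs false
set_option linter.style.haveILetI false
set_option maxHeartbeats 400000

/-!
# Linear maps in the long exact `Ext` sequences over `ModuleCat A`
-/

universe u

namespace Groth.Agent.Lib.Helper6.BassNG

open CategoryTheory Abelian

variable {A : Type u} [CommRing A]

section Cov

variable {S : ShortComplex (ModuleCat.{u} A)} (hS : S.ShortExact) (K : ModuleCat.{u} A)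

/-- the connecting map `Ext^n(K, X₃) → Ext^{n+1}(K, X₁)` -/
noncomputable def deltaCov (n : ℕ) : Ext K S.X₃ n →ₗ[A] Ext K S.X₁ (n + 1) where
  toFun x := x.comp hS.extClass rfl
  map_add' x y := Ext.add_comp x y _ _
  map_smul' c x := Ext.smul_comp x _ _ c

theorem deltaCov_bijective (n : ℕ)
    (hzero : ∀ x₂ : Ext K S.X₂ n, x₂.comp (Ext.mk₀ S.g) (add_zero n) = 0)
    (hvan : ∀ x₂ : Ext K S.X₂ (n + 1), x₂ = 0) : Function.Bijective (deltaCov hS K n) := by
  constructor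
  · rw [injective_iff_map_eq_zero]
    intro x₃ hx₃
    obtain ⟨x₂, hx₂⟩ := Ext.covariant_sequence_exact₃ K hS x₃ rfl hx₃
    rw [← hx₂, hzero]
  · intro x₁
    exact Ext.covariant_sequence_exact₁ K hS x₁ (hvan _) rfl

include hS in
theorem length_eq_of_delta (n : ℕ)
    (hzero : ∀ x₂ : Ext K S.X₂ n, x₂.comp (Ext.mk₀ S.g) (add_zero n) = 0)
    (hvan : ∀ x₂ : Ext K S.X₂ (n + 1), x₂ = 0) :
    Module.length A (Ext K S.X₃ n) = Module.length A (Ext K S.X₁ (n + 1)) :=
  (LinearEquiv.ofBijective (deltaCov hS K n) (deltaCov_bijective hS K n hzero hvan)).length_eq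

/-- the map `Ext^n(K, X₁) → Ext^n(K, X₂)` -/
noncomputable def postF (n : ℕ) : Ext K S.X₁ n →ₗ[A] Ext K S.X₂ n where
  toFun x := x.comp (Ext.mk₀ S.f) (add_zero n)
  map_add' x y := Ext.add_comp x y _ _
  map_smul' c x := Ext.smul_comp x _ _ c

include hS in
theorem postF_bijective (n : ℕ)
    (hinj : ∀ x₁ : Ext K S.X₁ n, x₁.comp (Ext.mk₀ S.f) (add_zero n) = 0 → x₁ = 0)
    (hzero : ∀ x₂ : Ext K S.X₂ n, x₂.comp (Ext.mk₀ S.g) (add_zero n) = 0) :
    Function.Bijective (postF (S := S) K n) := by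
  constructor
  · rw [injective_iff_map_eq_zero]
    intro x₁ hx₁
    exact hinj x₁ hx₁
  · intro x₂
    exact Ext.covariant_sequence_exact₂ K hS x₂ (hzero x₂)

include hS in
theorem length_eq_of_postF (n : ℕ)
    (hinj : ∀ x₁ : Ext K S.X₁ n, x₁.comp (Ext.mk₀ S.f) (add_zero n) = 0 → x₁ = 0)
    (hzero : ∀ x₂ : Ext K S.X₂ n, x₂.comp (Ext.mk₀ S.g) (add_zero n) = 0) :
    Module.length A (Ext K S.X₁ n) = Module.length A (Ext K S.X₂ n) :=
  (LinearEquiv.ofBijective (postF (S := S) K n) (postF_bijective hS K n hinj hzero)).length_eq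

include hS in
/-- injectivity of `Ext^0(K, X₁) → Ext^0(K, X₂)` -/
theorem postF_inj_zero (x₁ : Ext K S.X₁ 0)
    (h : x₁.comp (Ext.mk₀ S.f) (add_zero 0) = 0) : x₁ = 0 := by
  haveI := hS.mono_f
  have hi := Ext.postcomp_mk₀_injective_of_mono K S.f
  have h0 : (Ext.mk₀ S.f).postcomp K (add_zero 0) x₁ = (Ext.mk₀ S.f).postcomp K (add_zero 0) 0 := by
    rw [map_zero]
    exact h
  exact hi h0

include hS in
/-- injectivity of `Ext^{n+1}(K, X₁) → Ext^{n+1}(K, X₂)` when `Ext^n(K, X₃) = 0` -/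
theorem postF_inj_succ (n : ℕ) (h3 : ∀ x₃ : Ext K S.X₃ n, x₃ = 0) (x₁ : Ext K S.X₁ (n + 1))
    (h : x₁.comp (Ext.mk₀ S.f) (add_zero (n + 1)) = 0) : x₁ = 0 := by
  obtain ⟨x₃, hx₃⟩ := Ext.covariant_sequence_exact₁ K hS x₁ h rfl
  rw [← hx₃, h3 x₃, Ext.zero_comp]

end Cov

section Iso

/-- precomposition with an isomorphism -/
noncomputable def extEquivLeft {K K' : ModuleCat.{u} A} (e : K ≅ K') (Y : ModuleCat.{u} A)
    (n : ℕ) : Ext K' Y n ≃ₗ[A] Ext K Y n where
  toFun x := (Ext.mk₀ e.hom).comp x (zero_add n)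
  map_add' x y := Ext.comp_add _ x y _
  map_smul' c x := Ext.comp_smul _ x _ c
  invFun y := (Ext.mk₀ e.inv).comp y (zero_add n)
  left_inv x := by
    show (Ext.mk₀ e.inv).comp ((Ext.mk₀ e.hom).comp x (zero_add n)) (zero_add n) = x
    rw [Ext.mk₀_comp_mk₀_assoc, Iso.inv_hom_id, Ext.mk₀_id_comp]
  right_inv y := by
    show (Ext.mk₀ e.hom).comp ((Ext.mk₀ e.inv).comp y (zero_add n)) (zero_add n) = y
    rw [Ext.mk₀_comp_mk₀_assoc, Iso.hom_inv_id, Ext.mk₀_id_comp]

theorem length_ext_congr_left {K K' : ModuleCat.{u} A} (e : K ≅ K') (Y : ModuleCat.{u} A)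
    (n : ℕ) : Module.length A (Ext K' Y n) = Module.length A (Ext K Y n) :=
  (extEquivLeft e Y n).length_eq

end Iso

end Groth.Agent.Lib.Helper6.BassNG
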