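import Mathlib
import Groth.Agent.Lib.Helper8.ExtLoc4
import Groth.Agent.Lib.Helper6.BassNG.BNc

set_option autoImplicit false
set_option linter.unusedSectionVars false
set_option linter.unusedVariables false
set_option linter.unusedSimpArgs false
set_option linter.style.haveILetI false
set_option maxHeartbeats 400000

/-!
# The short exact sequence `0 → (R/q)_p → (R/q)_p → k(p) → 0` when `pR_p = qR_p + aR_p`
-/

universe u

namespace Groth.Agent.Lib.Helper6.BassNG

open CategoryTheory Abelian IsLocalRing Groth.Agent.Helper8.ExtLoc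

variable {R : Type u} [CommRing R] (p q : Ideal R) [hp : p.IsPrime] [hq : q.IsPrime] (a : R)

local notation "Ap" => Localization.AtPrime p

/-- the ideal `q + (a)` -/
abbrev Jid : Ideal R := q ⊔ Ideal.span {a}

/-- multiplication by `a` on `R/q` -/
noncomputable def mulA : (R ⧸ q) →ₗ[R] (R ⧸ q) := a • LinearMap.id

/-- the projection `R/q → R/(q + (a))` -/
noncomputable def projJ : (R ⧸ q) →ₗ[R] (R ⧸ Jid q a) :=
  Submodule.mapQ q (Jid q a) LinearMap.id (fun x hx => (le_sup_left : q ≤ Jid q a) hx)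

theorem projJ_mk (x : R) : projJ q a (Ideal.Quotient.mk q x) = Ideal.Quotient.mk (Jid q a) x := rfl

theorem mulA_mk (x : R) : mulA q a (Ideal.Quotient.mk q x) = Ideal.Quotient.mk q (a * x) := by
  show a • (Ideal.Quotient.mk q x) = _
  rw [Algebra.smul_def, map_mul]
  rfl

include hq in
theorem mulA_injective (ha : a ∉ q) : Function.Injective (mulA q a) := by
  rw [injective_iff_map_eq_zero]
  intro x hx
  obtain ⟨x, rfl⟩ := Ideal.Quotient.mk_surjective x
  rw [mulA_mk, Ideal.Quotient.eq_zero_iff_mem] at hx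
  rw [Ideal.Quotient.eq_zero_iff_mem]
  exact (hq.mem_or_mem hx).resolve_left ha

theorem projJ_surjective : Function.Surjective (projJ q a) := by
  intro y
  obtain ⟨x, rfl⟩ := Ideal.Quotient.mk_surjective y
  exact ⟨Ideal.Quotient.mk q x, projJ_mk q a x⟩

theorem exact_mulA_projJ : Function.Exact (mulA q a) (projJ q a) := by
  intro y
  obtain ⟨x, rfl⟩ := Ideal.Quotient.mk_surjective y
  rw [projJ_mk, Ideal.Quotient.eq_zero_iff_mem]
  constructor
  · intro hx
    obtain ⟨y, hy, z, hz, rfl⟩ := Submodule.mem_sup.mp hx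
    obtain ⟨c, rfl⟩ := Ideal.mem_span_singleton'.mp hz
    refine ⟨Ideal.Quotient.mk q c, ?_⟩
    rw [mulA_mk, map_add, Ideal.Quotient.eq_zero_iff_mem.mpr hy, zero_add, mul_comm]
  · rintro ⟨z, hz⟩
    obtain ⟨c, rfl⟩ := Ideal.Quotient.mk_surjective z
    rw [mulA_mk, Ideal.Quotient.eq] at hz
    have : x = a * c - (a * c - x) := by ring
    rw [this]
    exact (Jid q a).sub_mem
      ((le_sup_right : Ideal.span {a} ≤ Jid q a) (Ideal.mul_mem_right c _ (Ideal.mem_span_singleton_self a)))
      ((le_sup_left : q ≤ Jid q a) hz)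

/-- the short complex `R/q → R/q → R/(q + (a))` -/
noncomputable def scR : ShortComplex (ModuleCat.{u} R) :=
  ModuleCat.shortComplexOfCompEqZero (mulA q a) (projJ q a)
    (LinearMap.ext fun x => (exact_mulA_projJ q a).apply_apply_eq_zero x)

include hq in
theorem scR_shortExact (ha : a ∉ q) : (scR q a).ShortExact :=
  ModuleCat.shortComplex_shortExact _ (exact_mulA_projJ q a) (mulA_injective q a ha)
    (projJ_surjective q a)

/-- the localized short complex -/
noncomputable def scA : ShortComplex (ModuleCat.{u} Ap) := (scR q a).map (locF p.primeCompl)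

include hq in
theorem scA_shortExact (ha : a ∉ q) : (scA p q a).ShortExact :=
  (scR_shortExact q a ha).map_of_exact (locF p.primeCompl)

/-- `D' = (R/q)_p` -/
noncomputable abbrev Dp : ModuleCat.{u} Ap := locObj p.primeCompl (ModuleCat.of R (R ⧸ q))

/-- `K' = (R/(q + (a)))_p` -/
noncomputable abbrev Kp : ModuleCat.{u} Ap := locObj p.primeCompl (ModuleCat.of R (R ⧸ Jid q a))

theorem scA_X₁ : (scA p q a).X₁ = Dp p q := rfl
theorem scA_X₂ : (scA p q a).X₂ = Dp p q := rfl
theorem scA_X₃ : (scA p q a).X₃ = Kp p q a := rfl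

/-- the generator of `D'` -/
noncomputable def oneD : Dp p q := (LocalizedModule.mk (1 : R ⧸ q) 1 : LocalizedModule p.primeCompl (R ⧸ q))

theorem mk_eq_smul_oneD (r : R) (t : p.primeCompl) :
    (LocalizedModule.mk (Ideal.Quotient.mk q r) t : LocalizedModule p.primeCompl (R ⧸ q)) =
      (Localization.mk r t : Ap) • (oneD p q : LocalizedModule p.primeCompl (R ⧸ q)) := by
  unfold oneD
  rw [LocalizedModule.mk_smul_mk, mul_one]
  congr 1
  rw [Algebra.smul_def, mul_one]
  rfl

/-- morphisms out of `D'` are determined by the image of the generator -/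
theorem hom_ext_oneD {N : ModuleCat.{u} Ap} (φ ψ : Dp p q ⟶ N)
    (h : φ.hom (oneD p q) = ψ.hom (oneD p q)) : φ = ψ := by
  apply ModuleCat.hom_ext
  apply LinearMap.ext
  intro x
  induction x using LocalizedModule.induction_on with
  | h m t =>
    obtain ⟨r, rfl⟩ := Ideal.Quotient.mk_surjective m
    have := mk_eq_smul_oneD p q r t
    show φ.hom (LocalizedModule.mk (Ideal.Quotient.mk q r) t) =
      ψ.hom (LocalizedModule.mk (Ideal.Quotient.mk q r) t)
    rw [this, map_smul, map_smul, h]

/-- the generator of `D'` is killed by `q` -/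
theorem smul_oneD_eq_zero {b : R} (hb : b ∈ q) :
    (algebraMap R Ap b) • (oneD p q : LocalizedModule p.primeCompl (R ⧸ q)) = 0 := by
  unfold oneD
  rw [algebraMap_smul, LocalizedModule.smul'_mk]
  have : b • (1 : R ⧸ q) = 0 := by
    rw [Algebra.smul_def, mul_one]
    exact Ideal.Quotient.eq_zero_iff_mem.mpr hb
  rw [this, LocalizedModule.zero_mk]

/-- the first map of the localized sequence is multiplication by `a` -/
theorem scA_f_eq : (scA p q a).f = (algebraMap R Ap a) • 𝟙 (Dp p q) := by
  apply hom_ext_oneD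
  show ((locF p.primeCompl).map (scR q a).f).hom (LocalizedModule.mk (1 : R ⧸ q) 1) = _
  rw [locF_map_mk]
  show LocalizedModule.mk (mulA q a (1 : R ⧸ q)) 1 =
    (algebraMap R Ap a) • (LocalizedModule.mk (1 : R ⧸ q) 1 : LocalizedModule p.primeCompl (R ⧸ q))
  rw [algebraMap_smul, LocalizedModule.smul'_mk]
  rfl

theorem smul_id_comp {A : Type u} [CommRing A] {X Y : ModuleCat.{u} A} (c : A) {n : ℕ}
    (x : Ext X Y n) : (Ext.mk₀ (c • 𝟙 X)).comp x (zero_add n) = c • x := by
  rw [Ext.mk₀_smul, Ext.smul_comp, Ext.mk₀_id_comp]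

/-- precomposition with the first map is multiplication by `a` -/
theorem mk₀_f_comp {Y : ModuleCat.{u} Ap} {n : ℕ} (x : Ext (Dp p q) Y n) :
    (Ext.mk₀ (scA p q a).f).comp x (zero_add n) = (algebraMap R Ap a) • x := by
  rw [scA_f_eq]
  exact smul_id_comp (algebraMap R Ap a) x

section Residue

variable (hgen : ∀ g ∈ p, ∃ s c : R, s ∉ p ∧ s * g - c * a ∈ q) (hqp : q ≤ p) (hap : a ∈ p)

include hgen in
theorem mk_mk_eq_zero_of_mem {g : R} (hg : g ∈ p) (t : p.primeCompl) :
    (LocalizedModule.mk (Ideal.Quotient.mk (Jid q a) g) t :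
      LocalizedModule p.primeCompl (R ⧸ Jid q a)) = 0 := by
  obtain ⟨s, c, hs, hsc⟩ := hgen g hg
  rw [← LocalizedModule.zero_mk t, LocalizedModule.mk_eq]
  refine ⟨⟨s, hs⟩, ?_⟩
  simp only [Submonoid.smul_def, smul_zero]
  rw [smul_comm]
  have : s • (Ideal.Quotient.mk (Jid q a) g) = 0 := by
    rw [Algebra.smul_def]
    show Ideal.Quotient.mk (Jid q a) s * Ideal.Quotient.mk (Jid q a) g = 0
    rw [← map_mul, Ideal.Quotient.eq_zero_iff_mem]
    have : s * g = (s * g - c * a) + c * a := by ring
    rw [this]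
    exact (Jid q a).add_mem ((le_sup_left : q ≤ Jid q a) hsc)
      ((le_sup_right : Ideal.span {a} ≤ Jid q a)
        (Ideal.mul_mem_left _ c (Ideal.mem_span_singleton_self a)))
  rw [this, smul_zero]

include hgen hqp hap in
/-- `k(p) ≅ (R/(q + (a)))_p`. -/
theorem nonempty_residue_equiv_Kp :
    Nonempty ((Ap ⧸ maximalIdeal Ap) ≃ₗ[Ap] LocalizedModule p.primeCompl (R ⧸ Jid q a)) := by
  have hJp : Jid q a ≤ p := sup_le hqp ((Ideal.span_singleton_le_iff_mem p).mpr hap)
  let e₁ : LocalizedModule p.primeCompl (R ⧸ Jid q a) := LocalizedModule.mk 1 1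
  let φ : Ap →ₗ[Ap] LocalizedModule p.primeCompl (R ⧸ Jid q a) :=
    LinearMap.toSpanSingleton Ap _ e₁
  have hφsurj : Function.Surjective φ := by
    intro y
    induction y using LocalizedModule.induction_on with
    | h m s =>
      obtain ⟨r, rfl⟩ := Ideal.Quotient.mk_surjective m
      refine ⟨Localization.mk r s, ?_⟩
      change (Localization.mk r s : Ap) •
        (LocalizedModule.mk (1 : R ⧸ Jid q a) (1 : p.primeCompl) :
          LocalizedModule p.primeCompl (R ⧸ Jid q a)) = _
      rw [LocalizedModule.mk_smul_mk, mul_one]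
      congr 1
      change r • (1 : R ⧸ Jid q a) = _
      rw [Algebra.smul_def, mul_one]
      rfl
  have he₁ : e₁ ≠ 0 := by
    intro h
    change (LocalizedModule.mk (1 : R ⧸ Jid q a) (1 : p.primeCompl) :
      LocalizedModule p.primeCompl (R ⧸ Jid q a)) = 0 at h
    rw [IsLocalizedModule.mk_eq_mk', IsLocalizedModule.mk'_eq_zero'] at h
    obtain ⟨t, ht⟩ := h
    have : ((t : R) : R ⧸ Jid q a) = 0 := by
      have h2 : (t : R) • (1 : R ⧸ Jid q a) = 0 := ht
      rwa [Algebra.smul_def, mul_one] at h2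
    rw [Ideal.Quotient.eq_zero_iff_mem] at this
    exact t.2 (hJp this)
  have hker : LinearMap.ker φ = maximalIdeal Ap := by
    apply le_antisymm
    · apply le_maximalIdeal
      intro htop
      have : (1 : Ap) ∈ LinearMap.ker φ := by rw [htop]; trivial
      rw [LinearMap.mem_ker] at this
      apply he₁
      have h1 : φ 1 = e₁ := by
        change (1 : Ap) • e₁ = e₁
        rw [one_smul]
      rw [← h1, this]
    · rw [← Localization.AtPrime.map_eq_maximalIdeal, Ideal.map_le_iff_le_comap]
      intro r hr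
      rw [Ideal.mem_comap, LinearMap.mem_ker]
      change (algebraMap R Ap r) • (LocalizedModule.mk (1 : R ⧸ Jid q a) (1 : p.primeCompl) :
        LocalizedModule p.primeCompl (R ⧸ Jid q a)) = 0
      rw [algebraMap_smul, LocalizedModule.smul'_mk]
      have : r • (1 : R ⧸ Jid q a) = Ideal.Quotient.mk (Jid q a) r := by
        rw [Algebra.smul_def, mul_one]
        rfl
      rw [this]
      exact mk_mk_eq_zero_of_mem p q a hgen hr 1
  exact ⟨(Submodule.quotEquivOfEq _ _ hker.symm).trans (φ.quotKerEquivOfSurjective hφsurj)⟩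

include hgen hqp hap in
/-- the residue field is isomorphic to `K'` in `ModuleCat`. -/
theorem nonempty_residue_iso_Kp :
    Nonempty (ModuleCat.of Ap (ResidueField Ap) ≅ Kp p q a) := by
  obtain ⟨e⟩ := nonempty_residue_equiv_Kp p q a hgen hqp hap
  exact ⟨e.toModuleIso⟩

end Residue

end Groth.Agent.Lib.Helper6.BassNG
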