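import Mathlib
import Groth.Agent.Lib.Helper8.ExtLoc4
import Groth.Agent.Lib.Helper6.Bass0.BZa
import Groth.Agent.Lib.Helper6.BassNG.BNd

set_option autoImplicit false
set_option linter.unusedSectionVars false
set_option linter.unusedVariables false
set_option linter.unusedSimpArgs false
set_option linter.style.haveILetI false
set_option maxHeartbeats 400000

/-!
# `Ext^1_{R_p}(k(p), X_p)` when `pR_p = qR_p + aR_p` and `Ext^1((R/q)_p, X_p) = 0`
-/

universe u

namespace Groth.Agent.Lib.Helper6.BassNG

open CategoryTheory Abelian IsLocalRing Groth.Agent.Helper8.ExtLoc Groth.Agent.Lib.Helper6.Bass0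

variable {R : Type u} [CommRing R] (p q : Ideal R) [hp : p.IsPrime] [hq : q.IsPrime] (a : R)
  (X : Type u) [AddCommGroup X] [Module R X]

local notation "Ap" => Localization.AtPrime p
local notation "Xp" => LocalizedModule p.primeCompl X

/-- `Y = X_p` as an object -/
noncomputable abbrev Yp : ModuleCat.{u} Ap := locObj p.primeCompl (ModuleCat.of R X)

section Torsion

/-- common denominators for `q`-torsion in the localization -/
theorem exists_smul_eq_zero_of_torsion (hfg : q.FG) {x : X} {t : p.primeCompl}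
    (hy : ∀ b ∈ q, (algebraMap R Ap b) • (LocalizedModule.mk x t : Xp) = 0) :
    ∃ u : R, u ∉ p ∧ ∀ b ∈ q, b • u • x = 0 := by
  classical
  obtain ⟨s, hs⟩ := hfg
  have key : ∀ b ∈ q, ∃ u : R, u ∉ p ∧ u • b • x = 0 := by
    intro b hb
    have h := hy b hb
    rw [algebraMap_smul, LocalizedModule.smul'_mk, ← LocalizedModule.zero_mk t,
      LocalizedModule.mk_eq] at h
    obtain ⟨u, hu⟩ := h
    refine ⟨(u : R) * (t : R), p.primeCompl.mul_mem u.2 t.2, ?_⟩
    rw [mul_smul]
    simpa [Submonoid.smul_def] using hu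
  have fin : ∀ s' : Finset R, (∀ b ∈ s', b ∈ q) →
      ∃ u : R, u ∉ p ∧ ∀ b ∈ s', u • b • x = 0 := by
    intro s'
    induction s' using Finset.induction_on with
    | empty =>
      intro _
      exact ⟨1, (Ideal.ne_top_iff_one p).mp hp.ne_top, by simp⟩
    | insert a0 s0 hnot ih =>
      intro hmem
      obtain ⟨u, hu, h⟩ := ih (fun b hb => hmem b (Finset.mem_insert_of_mem hb))
      obtain ⟨u0, hu0, h0⟩ := key a0 (hmem a0 (Finset.mem_insert_self _ _))
      refine ⟨u0 * u, fun hmem' => (hp.mem_or_mem hmem').elim hu0 hu, ?_⟩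
      intro b hb
      rcases Finset.mem_insert.mp hb with rfl | hb
      · rw [mul_comm, mul_smul, h0, smul_zero]
      · rw [mul_smul, h b hb, smul_zero]
  obtain ⟨u, hu, h⟩ := fin s (fun b hb => hs ▸ Ideal.subset_span hb)
  refine ⟨u, hu, ?_⟩
  intro b hb
  rw [← hs] at hb
  induction hb using Submodule.span_induction with
  | mem b hb => rw [smul_comm]; exact h b hb
  | zero => rw [zero_smul]
  | add b c _ _ ihb ihc => rw [add_smul, ihb, ihc, add_zero]
  | smul c b _ ihb => rw [smul_eq_mul, mul_smul, ihb, smul_zero]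

variable {Λ : Type*} (y : Λ → X)

/-- torsion elements of `X_p` are combinations of the `y i / 1` -/
theorem mem_span_of_torsion (hfg : q.FG)
    (h3 : ∀ x : X, (∀ b ∈ q, b • x = 0) →
      ∃ s : R, s ∉ p ∧ ∃ r : Λ →₀ R, s • x = Finsupp.linearCombination R y r)
    (z : Xp) (hz : ∀ b ∈ q, (algebraMap R Ap b) • z = 0) :
    z ∈ Submodule.span Ap (Set.range fun i => (LocalizedModule.mk (y i) 1 : Xp)) := by
  classical
  induction z using LocalizedModule.induction_on with
  | h x t =>
    obtain ⟨u, hu, hux⟩ := exists_smul_eq_zero_of_torsion p q X hfg hz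
    obtain ⟨s, hs, r, hr⟩ := h3 (u • x) hux
    have e1 : (LocalizedModule.mk x t : Xp) =
        (Localization.mk 1 ((⟨s, hs⟩ : p.primeCompl) * ⟨u, hu⟩ * t) : Ap) •
          (LocalizedModule.mk (s • u • x) 1 : Xp) := by
      rw [LocalizedModule.mk_smul_mk, one_smul, mul_one, LocalizedModule.mk_eq]
      refine ⟨1, ?_⟩
      simp only [Submonoid.smul_def, Submonoid.coe_mul, one_smul, ← mul_smul]
      congr 1
      ring
    have hmkLC : (LocalizedModule.mk (Finsupp.linearCombination R y r) 1 : Xp) =
        ∑ i ∈ r.support, (algebraMap R Ap (r i)) • (LocalizedModule.mk (y i) 1 : Xp) := by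
      rw [Finsupp.linearCombination_apply, Finsupp.sum, ← LocalizedModule.mkLinearMap_apply,
        map_sum]
      apply Finset.sum_congr rfl
      intro i _
      rw [map_smul, algebraMap_smul]
      rfl
    rw [e1, hr, hmkLC]
    apply Submodule.smul_mem
    exact Submodule.sum_mem _
      (fun i _ => Submodule.smul_mem _ _ (Submodule.subset_span ⟨i, rfl⟩))

/-- relations among the `y i / 1` have coefficients in the maximal ideal -/
theorem mem_maximalIdeal_of_linearCombination_eq_zero (hqp : q ≤ p)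
    (h2 : ∀ r : Λ →₀ R, Finsupp.linearCombination R y r = 0 → ∀ i, r i ∈ q)
    (c : Λ →₀ Ap)
    (hc : Finsupp.linearCombination Ap (fun i => (LocalizedModule.mk (y i) 1 : Xp)) c = 0)
    (i : Λ) : c i ∈ maximalIdeal Ap := by
  classical
  obtain ⟨b, hb⟩ :=
    IsLocalization.exist_integer_multiples_of_finset p.primeCompl (c.support.image c)
  have hb' : ∀ j, ∃ r : R, algebraMap R Ap r = (b : R) • c j := by
    intro j
    by_cases hj : j ∈ c.support
    · exact hb (c j) (Finset.mem_image_of_mem _ hj)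
    · exact ⟨0, by rw [Finsupp.notMem_support_iff.mp hj, smul_zero, map_zero]⟩
  choose rr hrr using hb'
  let r : Λ →₀ R := Finsupp.onFinset c.support (fun j => if j ∈ c.support then rr j else 0)
    (by
      intro j hj
      by_contra h
      simp [h] at hj)
  have hr : ∀ j, algebraMap R Ap (r j) = (b : R) • c j := by
    intro j
    by_cases hj : j ∈ c.support
    · simp only [r, Finsupp.onFinset_apply, if_pos hj]
      exact hrr j
    · simp only [r, Finsupp.onFinset_apply, if_neg hj, map_zero]
      rw [Finsupp.notMem_support_iff.mp hj, smul_zero]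
  have hz : (LocalizedModule.mk (Finsupp.linearCombination R y r) 1 : Xp) = 0 := by
    have h1' : (LocalizedModule.mk (Finsupp.linearCombination R y r) 1 : Xp) =
        (b : R) • Finsupp.linearCombination Ap
          (fun i => (LocalizedModule.mk (y i) 1 : Xp)) c := by
      rw [Finsupp.linearCombination_apply, Finsupp.sum, ← LocalizedModule.mkLinearMap_apply,
        map_sum, Finsupp.linearCombination_apply, Finsupp.sum, Finset.smul_sum]
      have hsub : r.support ⊆ c.support := by
        intro j hj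
        by_contra hjc
        have : r j = 0 := by
          simp only [r, Finsupp.onFinset_apply, if_neg hjc]
        exact (Finsupp.mem_support_iff.mp hj) this
      rw [Finset.sum_subset hsub]
      · apply Finset.sum_congr rfl
        intro j _
        rw [map_smul, ← algebraMap_smul Ap (r j), hr j, smul_assoc]
        rfl
      · intro j _ hj
        rw [Finsupp.notMem_support_iff.mp hj, zero_smul, map_zero]
    rw [h1', hc, smul_zero]
  rw [← LocalizedModule.zero_mk 1, LocalizedModule.mk_eq] at hz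
  obtain ⟨u, hu⟩ := hz
  have hz' : Finsupp.linearCombination R y ((u : R) • r) = 0 := by
    rw [map_smul]
    simpa [Submonoid.smul_def] using hu
  have hmem := h2 _ hz' i
  have hri : r i ∈ p := by
    rw [Finsupp.smul_apply, smul_eq_mul] at hmem
    exact hqp ((hq.mem_or_mem hmem).resolve_left (fun h => u.2 (hqp h)))
  have hbc : (b : R) • c i ∈ maximalIdeal Ap := by
    rw [← hr i]
    exact (IsLocalization.AtPrime.to_map_mem_maximal_iff Ap p _).mpr hri
  rw [Algebra.smul_def] at hbc
  refine ((Ideal.IsPrime.mem_or_mem inferInstance hbc).resolve_left ?_)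
  intro hb0
  exact ((IsLocalization.AtPrime.to_map_mem_maximal_iff Ap p _).mp hb0) |> b.2

end Torsion

section Ev

/-- evaluation at the generator of `D'` -/
noncomputable def evD : Ext (Dp p q) (Yp p X) 0 →ₗ[Ap] Xp :=
  (LinearMap.applyₗ (oneD p q : LocalizedModule p.primeCompl (R ⧸ q))) ∘ₗ
    ((Ext.linearEquiv₀ (R := Ap)).trans (ModuleCat.homLinearEquiv (S := Ap))).toLinearMap

theorem evD_mk₀ (φ : Dp p q ⟶ Yp p X) : evD p q X (Ext.mk₀ φ) = φ.hom (oneD p q) := by
  have : Ext.mk₀ φ = (Ext.linearEquiv₀ (R := Ap)).symm φ := rfl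
  show (ModuleCat.homLinearEquiv (S := Ap) ((Ext.linearEquiv₀ (R := Ap)) (Ext.mk₀ φ)))
    (oneD p q) = _
  rw [this, LinearEquiv.apply_symm_apply]
  rfl

theorem evD_injective : Function.Injective (evD p q X) := by
  rw [injective_iff_map_eq_zero]
  intro x hx
  obtain ⟨φ, rfl⟩ := Ext.addEquiv₀.symm.surjective x
  have h1 : evD p q X (Ext.mk₀ φ) = 0 := hx
  rw [evD_mk₀] at h1
  have : φ = 0 := hom_ext_oneD p q φ 0 (by rw [h1]; rfl)
  show Ext.mk₀ φ = 0
  rw [this, Ext.mk₀_zero]

theorem smul_evD_eq_zero (x : Ext (Dp p q) (Yp p X) 0) {b : R} (hb : b ∈ q) :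
    (algebraMap R Ap b) • evD p q X x = 0 := by
  obtain ⟨φ, rfl⟩ := Ext.addEquiv₀.symm.surjective x
  have h1 : evD p q X (Ext.mk₀ φ) = φ.hom (oneD p q) := evD_mk₀ p q X φ
  show (algebraMap R Ap b) • evD p q X (Ext.mk₀ φ) = 0
  rw [h1]
  have h2 := φ.hom.map_smul (algebraMap R Ap b) (oneD p q)
  rw [smul_oneD_eq_zero p q hb, map_zero] at h2
  exact h2.symm

variable {X}

/-- the linear map `R/q → X`, `1 ↦ v`, for `v` killed by `q` -/
noncomputable def liftLin (v : X) (hv : ∀ b ∈ q, b • v = 0) : (R ⧸ q) →ₗ[R] X :=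
  Submodule.liftQ q (LinearMap.toSpanSingleton R X v) (fun b hb => by
    rw [LinearMap.mem_ker, LinearMap.toSpanSingleton_apply]
    exact hv b hb)

theorem liftLin_one (v : X) (hv : ∀ b ∈ q, b • v = 0) : liftLin q v hv (1 : R ⧸ q) = v := by
  show Submodule.liftQ q (LinearMap.toSpanSingleton R X v) _ (Submodule.Quotient.mk 1) = v
  rw [Submodule.liftQ_apply, LinearMap.toSpanSingleton_apply, one_smul]

/-- the morphism `D' → X_p` attached to an element of `X` killed by `q` -/
noncomputable def homOf (v : X) (hv : ∀ b ∈ q, b • v = 0) : Dp p q ⟶ Yp p X :=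
  (locF p.primeCompl).map (ModuleCat.ofHom (liftLin q v hv))

theorem homOf_oneD (v : X) (hv : ∀ b ∈ q, b • v = 0) :
    (homOf p q v hv).hom (oneD p q) = (LocalizedModule.mk v 1 : Xp) := by
  have h := locF_map_mk p.primeCompl (ModuleCat.ofHom (liftLin q v hv)) (1 : R ⧸ q) 1
  have h2 : (ModuleCat.ofHom (liftLin q v hv)) (1 : R ⧸ q) = v := liftLin_one q v hv
  rw [h2] at h
  exact h

theorem evD_homOf (v : X) (hv : ∀ b ∈ q, b • v = 0) :
    evD p q X (Ext.mk₀ (homOf p q v hv)) = (LocalizedModule.mk v 1 : Xp) := by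
  rw [evD_mk₀, homOf_oneD]

end Ev

end Groth.Agent.Lib.Helper6.BassNG
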