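import Mathlib
import Groth.Agent.Lib.Helper6.BassNG.BNe

set_option autoImplicit false
set_option linter.unusedSectionVars false
set_option linter.unusedVariables false
set_option linter.unusedSimpArgs false
set_option linter.style.haveILetI false
set_option maxHeartbeats 800000

/-!
# The length of `Ext^1_{R_p}(k(p), X_p)`, vanishing of higher `Ext` and the zero map
-/

universe u

namespace Groth.Agent.Lib.Helper6.BassNG

open CategoryTheory Abelian IsLocalRing Groth.Agent.Helper8.ExtLoc Groth.Agent.Lib.Helper6.Bass0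

variable {R : Type u} [CommRing R] (p q : Ideal R) [hp : p.IsPrime] [hq : q.IsPrime] (a : R)
  (X : Type u) [AddCommGroup X] [Module R X]

local notation "Ap" => Localization.AtPrime p
local notation "Xp" => LocalizedModule p.primeCompl X

section

variable (ha : a ∉ q)

/-- the connecting map `Ext^0(D', Y) → Ext^1(K', Y)` -/
noncomputable def deltaD : Ext (Dp p q) (Yp p X) 0 →ₗ[Ap] Ext (Kp p q a) (Yp p X) 1 where
  toFun x := (scA_shortExact p q a ha).extClass.comp x (add_zero 1)
  map_add' x y := Ext.comp_add _ x y _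
  map_smul' c x := Ext.comp_smul _ x _ c

include ha in
theorem deltaD_surjective (hvan : ∀ x : Ext (Dp p q) (Yp p X) 1, x = 0) :
    Function.Surjective (deltaD p q a X ha) := by
  intro x₃
  have h0 : (Ext.mk₀ (scA p q a).g).comp
      (show Ext (scA p q a).X₃ (Yp p X) 1 from x₃) (zero_add 1) = 0 := hvan _
  exact Ext.contravariant_sequence_exact₃ (scA_shortExact p q a ha) (Yp p X) _ h0 (add_zero 1)

theorem deltaD_smul_eq_zero (x : Ext (Dp p q) (Yp p X) 0) :
    deltaD p q a X ha ((algebraMap R Ap a) • x) = 0 := by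
  rw [← mk₀_f_comp p q a x]
  show (scA_shortExact p q a ha).extClass.comp
    ((Ext.mk₀ (scA p q a).f).comp x (zero_add 0)) (add_zero 1) = 0
  rw [(scA_shortExact p q a ha).extClass_comp_assoc]

theorem exists_smul_of_deltaD_eq_zero (x : Ext (Dp p q) (Yp p X) 0)
    (hx : deltaD p q a X ha x = 0) :
    ∃ x₂ : Ext (Dp p q) (Yp p X) 0, (algebraMap R Ap a) • x₂ = x := by
  obtain ⟨x₂, hx₂⟩ := Ext.contravariant_sequence_exact₁ (scA_shortExact p q a ha) (Yp p X)
    (show Ext (scA p q a).X₁ (Yp p X) 0 from x) (add_zero 1) hx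
  refine ⟨x₂, ?_⟩
  rw [← mk₀_f_comp p q a]
  exact hx₂

include ha in
/-- vanishing of the higher `Ext` of `K'` -/
theorem ext_Kp_eq_zero (j : ℕ) (h1 : ∀ x : Ext (Dp p q) (Yp p X) (j + 1), x = 0)
    (h2 : ∀ x : Ext (Dp p q) (Yp p X) (j + 2), x = 0)
    (x₃ : Ext (Kp p q a) (Yp p X) (j + 2)) : x₃ = 0 := by
  have h0 : (Ext.mk₀ (scA p q a).g).comp
      (show Ext (scA p q a).X₃ (Yp p X) (j + 2) from x₃) (zero_add (j + 2)) = 0 := h2 _
  obtain ⟨x₁, hx₁⟩ := Ext.contravariant_sequence_exact₃ (scA_shortExact p q a ha) (Yp p X) _ h0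
    (show 1 + (j + 1) = j + 2 by omega)
  have : x₁ = 0 := h1 x₁
  rw [this, Ext.comp_zero] at hx₁
  exact hx₁.symm

end

section ZeroMap

variable (ha : a ∉ q) [IsNoetherianRing R]
  {Z' : Type u} [AddCommGroup Z'] [Module R Z'] (π : X →ₗ[R] Z')

include ha in
/-- the map induced by `π` on `Ext^1(K', -)` vanishes when the `q`-torsion of `X` is killed by
`π` up to denominators -/
theorem ext_one_comp_eq_zero (hvan : ∀ x : Ext (Dp p q) (Yp p X) 1, x = 0)
    (hπ : ∀ x : X, (∀ b ∈ q, b • x = 0) → ∃ s : R, s ∉ p ∧ π (s • x) = 0)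
    (x : Ext (Kp p q a) (Yp p X) 1) :
    x.comp (Ext.mk₀ ((locF p.primeCompl).map (ModuleCat.ofHom π))) (add_zero 1) = 0 := by
  obtain ⟨x₁, rfl⟩ := deltaD_surjective p q a X ha hvan x
  obtain ⟨φ, rfl⟩ := Ext.addEquiv₀.symm.surjective x₁
  show ((scA_shortExact p q a ha).extClass.comp (Ext.mk₀ φ) (add_zero 1)).comp
    (Ext.mk₀ ((locF p.primeCompl).map (ModuleCat.ofHom π))) (add_zero 1) = 0
  rw [Ext.comp_assoc_of_third_deg_zero, Ext.mk₀_comp_mk₀]
  have hz : @CategoryStruct.comp (ModuleCat Ap) _ (scA p q a).X₁ (Yp p X) _ φ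
      ((locF p.primeCompl).map (ModuleCat.ofHom π)) = 0 := by
    apply hom_ext_oneD
    show ((locF p.primeCompl).map (ModuleCat.ofHom π)).hom (φ.hom (oneD p q)) = 0
    have htor : ∀ b ∈ q, (algebraMap R Ap b) • (φ.hom (oneD p q) : Xp) = 0 := by
      intro b hb
      have h2 := φ.hom.map_smul (algebraMap R Ap b) (oneD p q)
      rw [smul_oneD_eq_zero p q hb, map_zero] at h2
      exact h2.symm
    generalize (φ.hom (oneD p q) : Xp) = z at htor
    induction z using LocalizedModule.induction_on with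
    | h x₀ t =>
      obtain ⟨u, hu, hux⟩ := exists_smul_eq_zero_of_torsion p q X (IsNoetherian.noetherian q) htor
      obtain ⟨s, hs, hsπ⟩ := hπ (u • x₀) hux
      rw [locF_map_mk]
      show (LocalizedModule.mk (π x₀) t : LocalizedModule p.primeCompl Z') = 0
      rw [← LocalizedModule.zero_mk t, LocalizedModule.mk_eq]
      refine ⟨⟨s * u, fun h => (hp.mem_or_mem h).elim hs hu⟩, ?_⟩
      simp only [Submonoid.smul_def, smul_zero]
      rw [smul_comm, ← map_smul, mul_smul, hsπ, smul_zero]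
  rw [hz, Ext.mk₀_zero, Ext.comp_zero]

end ZeroMap

section Length

variable (ha : a ∉ q) [IsNoetherianRing R] (hqp : q ≤ p) (hap : a ∈ p)
  (hgen : ∀ g ∈ p, ∃ s c : R, s ∉ p ∧ s * g - c * a ∈ q)

include hgen hap in
/-- elements of the maximal ideal are multiples of `a` modulo `qR_p` -/
theorem exists_decomp_of_mem_maximalIdeal (z : Ap) (hz : z ∈ maximalIdeal Ap) :
    ∃ (β c' : Ap) (b₀ : R), b₀ ∈ q ∧ z = β * algebraMap R Ap b₀ + algebraMap R Ap a * c' := by
  obtain ⟨g, t, rfl⟩ := IsLocalization.exists_mk'_eq p.primeCompl z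
  have hg : g ∈ p := (IsLocalization.AtPrime.mk'_mem_maximal_iff Ap p g t).mp hz
  obtain ⟨s, c₀, hs, hsc⟩ := hgen g hg
  let st : p.primeCompl := ⟨s, hs⟩ * t
  refine ⟨IsLocalization.mk' Ap 1 st, IsLocalization.mk' Ap c₀ st, s * g - c₀ * a, hsc, ?_⟩
  have hu : IsUnit (algebraMap R Ap (st : R)) := IsLocalization.map_units Ap st
  apply hu.mul_left_cancel
  have e1 : algebraMap R Ap (st : R) * IsLocalization.mk' Ap g t = algebraMap R Ap (s * g) := by
    have : (st : R) = s * (t : R) := rfl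
    rw [this, map_mul, mul_assoc, IsLocalization.mk'_spec', map_mul]
  have e2 : algebraMap R Ap (st : R) * IsLocalization.mk' Ap (1 : R) st = 1 := by
    rw [IsLocalization.mk'_spec', map_one]
  have e3 : algebraMap R Ap (st : R) * IsLocalization.mk' Ap c₀ st = algebraMap R Ap c₀ :=
    IsLocalization.mk'_spec' _ _ _
  rw [e1, mul_add, ← mul_assoc, e2, one_mul, mul_left_comm, e3, ← map_mul, ← map_add]
  congr 1
  ring

variable {X} {Λ : Type*} (y : Λ → X) (h1 : ∀ i, ∀ b ∈ q, b • y i = 0)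

/-- the map `(Λ →₀ A) → Ext^0(D', Y)` attached to a family of `q`-torsion elements -/
noncomputable def thetaD : (Λ →₀ Ap) →ₗ[Ap] Ext (Dp p q) (Yp p X) 0 :=
  Finsupp.linearCombination Ap (fun i => Ext.mk₀ (homOf p q (y i) (h1 i)))

theorem evD_thetaD (c : Λ →₀ Ap) :
    evD p q X (thetaD p q y h1 c) =
      Finsupp.linearCombination Ap (fun i => (LocalizedModule.mk (y i) 1 : Xp)) c := by
  unfold thetaD
  rw [Finsupp.apply_linearCombination]
  have : (⇑(evD p q X) ∘ fun i => Ext.mk₀ (homOf p q (y i) (h1 i))) =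
      fun i => (LocalizedModule.mk (y i) 1 : Xp) := by
    funext i
    exact evD_homOf p q (y i) (h1 i)
  rw [this]

theorem thetaD_surjective
    (h3 : ∀ x : X, (∀ b ∈ q, b • x = 0) →
      ∃ s : R, s ∉ p ∧ ∃ r : Λ →₀ R, s • x = Finsupp.linearCombination R y r) :
    Function.Surjective (thetaD p q y h1) := by
  intro x
  have hmem := mem_span_of_torsion p q X y (IsNoetherian.noetherian q) h3 (evD p q X x)
    (fun b hb => smul_evD_eq_zero p q X x hb)
  obtain ⟨c, hc⟩ := (Finsupp.mem_span_range_iff_exists_finsupp).mp hmem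
  refine ⟨c, ?_⟩
  apply evD_injective p q X
  rw [evD_thetaD]
  rw [← hc]
  rfl

include ha hgen hap hqp h1 in
/-- **(L1)** the length of `Ext^1(K', X_p)` is the number of elements of a `q`-basis. -/
theorem length_ext_one
    (h2 : ∀ r : Λ →₀ R, Finsupp.linearCombination R y r = 0 → ∀ i, r i ∈ q)
    (h3 : ∀ x : X, (∀ b ∈ q, b • x = 0) →
      ∃ s : R, s ∉ p ∧ ∃ r : Λ →₀ R, s • x = Finsupp.linearCombination R y r)
    (hvan : ∀ x : Ext (Dp p q) (Yp p X) 1, x = 0) :
    Module.length Ap (Ext (Kp p q a) (Yp p X) 1) = ENat.card Λ := by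
  classical
  set Θ := thetaD p q y h1 with hΘ
  set Ξ : (Λ →₀ Ap) →ₗ[Ap] Ext (Kp p q a) (Yp p X) 1 := (deltaD p q a X ha) ∘ₗ Θ with hΞ
  have hΞsurj : Function.Surjective Ξ :=
    (deltaD_surjective p q a X ha hvan).comp (thetaD_surjective p q y h1 h3)
  let π : (Λ →₀ Ap) →ₗ[Ap] (Λ →₀ ResidueField Ap) :=
    Finsupp.mapRange.linearMap (Algebra.linearMap Ap (ResidueField Ap))
  have hπsurj : Function.Surjective π :=
    Finsupp.mapRange_surjective _ (map_zero _) residue_surjective
  have hπ : ∀ c : Λ →₀ Ap, π c = 0 ↔ ∀ i, c i ∈ maximalIdeal Ap := by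
    intro c
    rw [Finsupp.ext_iff]
    apply forall_congr'
    intro i
    show residue Ap (c i) = 0 ↔ _
    exact residue_eq_zero_iff _
  have haM : algebraMap R Ap a ∈ maximalIdeal Ap :=
    (IsLocalization.AtPrime.to_map_mem_maximal_iff Ap p a).mpr hap
  have hker : LinearMap.ker Ξ = LinearMap.ker π := by
    ext c
    rw [LinearMap.mem_ker, LinearMap.mem_ker, hπ]
    constructor
    · intro hc i
      obtain ⟨x₂, hx₂⟩ := exists_smul_of_deltaD_eq_zero p q a X ha (Θ c) hc
      obtain ⟨c₂, rfl⟩ := thetaD_surjective p q y h1 h3 x₂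
      have h0 : Θ (c - (algebraMap R Ap a) • c₂) = 0 := by
        rw [map_sub, map_smul, hΘ, hx₂, sub_self]
      have h0' := congrArg (evD p q X) h0
      rw [hΘ, evD_thetaD, map_zero] at h0'
      have hmem := mem_maximalIdeal_of_linearCombination_eq_zero p q X y hqp h2 _ h0' i
      rw [Finsupp.sub_apply, Finsupp.smul_apply, smul_eq_mul] at hmem
      have : c i = (c i - algebraMap R Ap a * c₂ i) + algebraMap R Ap a * c₂ i := by ring
      rw [this]
      exact Ideal.add_mem _ hmem (Ideal.mul_mem_right _ _ haM)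
    · intro hc
      have hsingle : ∀ i, ∀ z ∈ maximalIdeal Ap,
          deltaD p q a X ha (z • Ext.mk₀ (homOf p q (y i) (h1 i))) = 0 := by
        intro i z hz
        obtain ⟨β, c', b₀, hb₀, rfl⟩ := exists_decomp_of_mem_maximalIdeal p q a hap hgen z hz
        rw [add_smul, map_add, mul_smul, mul_smul, deltaD_smul_eq_zero, add_zero]
        have hz0 : (algebraMap R Ap b₀) • Ext.mk₀ (homOf p q (y i) (h1 i)) = 0 := by
          apply evD_injective p q X
          rw [map_smul, map_zero]
          exact smul_evD_eq_zero p q X _ hb₀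
        rw [hz0, smul_zero, map_zero]
      show deltaD p q a X ha (Θ c) = 0
      rw [hΘ]
      unfold thetaD
      rw [Finsupp.linearCombination_apply, Finsupp.sum, map_sum]
      apply Finset.sum_eq_zero
      intro i _
      exact hsingle i (c i) (hc i)
  calc Module.length Ap (Ext (Kp p q a) (Yp p X) 1)
      = Module.length Ap ((Λ →₀ Ap) ⧸ LinearMap.ker Ξ) :=
        (LinearMap.quotKerEquivOfSurjective Ξ hΞsurj).length_eq.symm
    _ = Module.length Ap ((Λ →₀ Ap) ⧸ LinearMap.ker π) :=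
        (Submodule.quotEquivOfEq _ _ hker).length_eq
    _ = Module.length Ap (Λ →₀ ResidueField Ap) :=
        (LinearMap.quotKerEquivOfSurjective π hπsurj).length_eq
    _ = ENat.card Λ := by
        rw [Module.length_finsupp, length_residueField, mul_one]

end Length

end Groth.Agent.Lib.Helper6.BassNG
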