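import Mathlib
import Groth.Prelude.Def_GrLC2
import Groth.Agent.Lib.Helper9.GrLC.Hull
import Groth.Agent.Lib.Helper9.GrLC.Coind
import Groth.Agent.Lib.Helper6.GrDepth.GPa
import Groth.Agent.Lib.Helper6.Bass0.BZb
import Groth.Agent.Lib.Helper6.Bass0.BZf
import Groth.Agent.Lib.Helper6.BassNG.BNc
import Groth.Agent.Lib.Helper6.BassNG.BNb

set_option autoImplicit false
set_option linter.unusedSectionVars false
set_option linter.unusedVariables false
set_option linter.unusedSimpArgs false
set_option linter.style.haveILetI false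
set_option maxHeartbeats 400000

/-!
# Preparations for the Bass numbers at a non-homogeneous prime

* `μ_0(p, M) = 0` for a graded module `M` over a `ℤ`-graded ring and a non-homogeneous prime `p`;
* `μ_0(q, V₁) = μ_0(q, V₂)` for an essential extension `V₁ ⊆ V₂`;
* the *-injective hull step `0 → Z → X → Z' → 0`.
-/

universe u

namespace Groth.Agent.Lib.Helper6.BassNG

open CategoryTheory Abelian IsLocalRing DirectSum Groth.Agent.Helper8.ExtLoc
  Groth.Agent.Lib.Helper6.Bass0 Groth.Agent.Helper9.GrLCLib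

section G1

variable {R : Type u} [CommRing R] [IsNoetherianRing R] (ℬ : ℤ → AddSubgroup R) [GradedRing ℬ]
  {M : Type u} [AddCommGroup M] [Module R M] (ℳ : ℤ → AddSubgroup M)
  [DirectSum.Decomposition ℳ] [SetLike.GradedSMul ℬ ℳ] (p : Ideal R) [hp : p.IsPrime]

include ℳ in
/-- **`μ_0(p, M) = 0` for a non-homogeneous prime `p`.** -/
theorem bassNum_zero_eq_zero (hnh : ¬ p.IsHomogeneous ℬ) : GrLC.bassNum p M 0 = 0 := by
  unfold GrLC.bassNum
  rw [bassNumLocal_zero]
  have hsoc : soc (Localization.AtPrime p) (LocalizedModule p.primeCompl M) = ⊥ := by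
    rw [eq_bot_iff]
    intro y hy
    rw [Submodule.mem_bot]
    by_contra hy0
    induction y using LocalizedModule.induction_on with
    | h x t =>
      obtain ⟨u, hu, hux⟩ := exists_smul_eq_zero_of_mem_soc p M (IsNoetherian.noetherian p) hy
      have hass : p ∈ associatedPrimes R M := by
        refine (isAssociatedPrime_iff).2 ⟨hp, u • x, ?_⟩
        ext r
        rw [Submodule.mem_colon_singleton, Submodule.mem_bot]
        constructor
        · intro hr
          exact hux r hr
        · intro hr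
          by_contra hrp
          apply hy0
          rw [← LocalizedModule.zero_mk t, LocalizedModule.mk_eq]
          refine ⟨⟨r * u, fun h => (hp.mem_or_mem h).elim hrp hu⟩, ?_⟩
          simp only [Submonoid.smul_def, smul_zero]
          rw [smul_comm, mul_smul, hr, smul_zero]
      exact hnh (GrDepth.isHomogeneous_of_mem_associatedPrimes ℬ ℳ hass)
  rw [hsoc]
  exact Module.length_bot

end G1

section G2

variable {R : Type u} [CommRing R] [IsNoetherianRing R] (q : Ideal R) [hq : q.IsPrime]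
  {V₁ V₂ : Type u} [AddCommGroup V₁] [Module R V₁] [AddCommGroup V₂] [Module R V₂]
  (f : V₁ →ₗ[R] V₂)

local notation "Aq" => Localization.AtPrime q

/-- **`μ_0` does not change along an essential extension.** -/
theorem bassNum_zero_eq_of_essential (hf : Function.Injective f)
    (hess : ∀ x : V₂, x ≠ 0 → ∃ b : R, b • x ∈ LinearMap.range f ∧ b • x ≠ 0) :
    GrLC.bassNum q V₁ 0 = GrLC.bassNum q V₂ 0 := by
  let g : V₂ →ₗ[R] (V₂ ⧸ LinearMap.range f) := (LinearMap.range f).mkQ
  have hg : Function.Surjective g := Submodule.mkQ_surjective _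
  have hex : Function.Exact f g := LinearMap.exact_map_mkQ_range f
  have eq0 : g.comp f = 0 := LinearMap.ext fun x => hex.apply_apply_eq_zero x
  let T := ModuleCat.shortComplexOfCompEqZero f g eq0
  have hT : T.ShortExact := ModuleCat.shortComplex_shortExact T hex hf hg
  have hT' : (T.map (locF q.primeCompl)).ShortExact := hT.map_of_exact (locF q.primeCompl)
  let X : ModuleCat.{u} Aq := ModuleCat.of Aq (ResidueField Aq)
  have hzero : ∀ x₂ : Ext X (T.map (locF q.primeCompl)).X₂ 0,
      x₂.comp (Ext.mk₀ (T.map (locF q.primeCompl)).g) (add_zero 0) = 0 := by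
    intro x₂
    obtain ⟨φ, rfl⟩ := Ext.addEquiv₀.symm.surjective x₂
    show (Ext.mk₀ φ).comp (Ext.mk₀ (T.map (locF q.primeCompl)).g) (add_zero 0) = 0
    rw [Ext.mk₀_comp_mk₀]
    have : φ ≫ (T.map (locF q.primeCompl)).g = 0 := by
      apply ModuleCat.hom_ext
      apply LinearMap.ext
      intro c
      show locLin q.primeCompl g (φ.hom c) = 0
      apply soc_le_ker q f g hex hess
      intro a ha
      have h1 : a • c = 0 := by
        rw [Algebra.smul_def]
        have : algebraMap Aq (ResidueField Aq) a = 0 := (residue_eq_zero_iff a).mpr ha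
        rw [this, zero_mul]
      have h2 := φ.hom.map_smul a c
      rw [h1, map_zero] at h2
      exact h2.symm
    rw [this, Ext.mk₀_zero]
  rw [bassNum_eq_length, bassNum_eq_length]
  exact length_eq_of_postF hT' X 0 (postF_inj_zero hT' X) hzero

end G2

section G3

variable {ι : Type} [AddCommGroup ι] [DecidableEq ι] {R : Type u} [CommRing R]
  (𝒜 : ι → AddSubgroup R) [GradedRing 𝒜]

/-- the *-injective hull step `0 → Z → X → Z' → 0` -/
theorem exists_hull_step (Z : GrLC.GMod.{u} 𝒜) :
    ∃ (X Z' : GrLC.GMod.{u} 𝒜) (f : Z.carrier →ₗ[R] X.carrier)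
      (g : X.carrier →ₗ[R] Z'.carrier), Function.Injective f ∧ Function.Surjective g ∧
      Function.Exact f g ∧ GrLC.IsStarInj 𝒜 X.gr ∧ GrLC.IsStarEss Z.gr X.gr f := by
  obtain ⟨A, η, hη, hηinj, hA⟩ := exists_starInj_embedding 𝒜 Z.gr
  obtain ⟨E, K, hE, hle, hK, hcompl, hhull⟩ := exists_hull_in_starInj 𝒜 Z.gr A hA η hη hηinj
    (range_isHomogeneous Z.gr A.gr hη)
  have hrange : (LinearMap.range (subLift A E hE η hle)).IsHomogeneous (subGMod A E hE).gr :=
    range_isHomogeneous Z.gr (subGMod A E hE).gr hhull.grHom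
  refine ⟨subGMod A E hE, quotGMod (subGMod A E hE) _ hrange, subLift A E hE η hle,
    quotMap (subGMod A E hE) _ hrange, hhull.injective, quotMap_surjective _ _ hrange, ?_,
    hhull.starInj, hhull.toIsStarEss⟩
  intro y
  rw [quotMap_eq_zero_iff]
  exact LinearMap.mem_range

variable {M : Type u} [AddCommGroup M] [Module R M] (ℳ : ι → AddSubgroup M)
  [DirectSum.Decomposition ℳ] [SetLike.GradedSMul 𝒜 ℳ]
  {X : Type u} [AddCommGroup X] [Module R X] (𝒳 : ι → AddSubgroup X)
  [DirectSum.Decomposition 𝒳] [SetLike.GradedSMul 𝒜 𝒳] (f : M →ₗ[R] X)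

include 𝒜 in
/-- a *-essential extension is essential -/
theorem essential_of_isStarEss (hess : GrLC.IsStarEss ℳ 𝒳 f) (x : X) (hx : x ≠ 0) :
    ∃ b : R, b • x ∈ LinearMap.range f ∧ b • x ≠ 0 :=
  exists_smul_mem_of_starEss 𝒜 𝒳 (top_isHomogeneous 𝒳)
    (range_isHomogeneous ℳ 𝒳 hess.grHom)
    (fun Q hQ _ hne => hess.essential Q hQ hne) (Submodule.mem_top : x ∈ ⊤) hx

include 𝒜 in
/-- the torsion of a homogeneous ideal `q` lies in the base of a *-essential extension, up to
multiplication by elements outside a prime `p` whose homogeneous elements lie in `q` -/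
theorem exists_smul_mem_range_of_torsion (hess : GrLC.IsStarEss ℳ 𝒳 f) (q : Ideal R)
    (hq : q.IsHomogeneous 𝒜) (p : Ideal R) [hp : p.IsPrime]
    (hpq : ∀ (b : R) (i : ι), b ∈ 𝒜 i → b ∈ p → b ∈ q)
    (x : X) (hx : ∀ b ∈ q, b • x = 0) : ∃ s : R, s ∉ p ∧ s • x ∈ LinearMap.range f := by
  classical
  have hN : (LinearMap.range f).IsHomogeneous 𝒳 := range_isHomogeneous ℳ 𝒳 hess.grHom
  have hcomp : ∀ g : ι, ∃ b : R, b ∉ p ∧ b • (decompose 𝒳 x g : X) ∈ LinearMap.range f := by
    intro g
    by_cases h0 : (decompose 𝒳 x g : X) = 0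
    · refine ⟨1, (Ideal.ne_top_iff_one p).mp hp.ne_top, ?_⟩
      rw [h0, smul_zero]
      exact Submodule.zero_mem _
    · obtain ⟨d, b, hb, hbN, hb0⟩ := exists_homog_smul_mem 𝒜 𝒳 (top_isHomogeneous 𝒳) hN
        (fun Q hQ _ hne => hess.essential Q hQ hne) _ (decompose 𝒳 x g : X)
        (Submodule.mem_top) h0 le_rfl
      refine ⟨b, fun hbp => hb0 ?_, hbN⟩
      exact smul_decompose_eq_zero 𝒜 𝒳 hq hx g b (hpq b d hb hbp)
  have hfin : ∀ T : Finset ι, ∃ s : R, s ∉ p ∧
      ∀ g ∈ T, s • (decompose 𝒳 x g : X) ∈ LinearMap.range f := by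
    intro T
    induction T using Finset.induction_on with
    | empty => exact ⟨1, (Ideal.ne_top_iff_one p).mp hp.ne_top, by simp⟩
    | insert g T hg ih =>
      obtain ⟨s, hs, hsT⟩ := ih
      obtain ⟨b, hb, hbg⟩ := hcomp g
      refine ⟨b * s, fun h => (hp.mem_or_mem h).elim hb hs, ?_⟩
      intro g' hg'
      rcases Finset.mem_insert.mp hg' with rfl | hg'
      · rw [mul_comm, mul_smul]
        exact Submodule.smul_mem _ _ hbg
      · rw [mul_smul]
        exact Submodule.smul_mem _ _ (hsT g' hg')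
  obtain ⟨s, hs, hsT⟩ := hfin (decompose 𝒳 x).support
  refine ⟨s, hs, ?_⟩
  rw [← DirectSum.sum_support_decompose 𝒳 x, Finset.smul_sum]
  exact Submodule.sum_mem _ (fun g hg => hsT g hg)

end G3

end Groth.Agent.Lib.Helper6.BassNG
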