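import Mathlib
import Groth.Prelude.Def_GrLC2
import Groth.Agent.Lib.Helper6.Bass0.BZe
import Groth.Agent.Lib.Helper6.BassNG.BNa
import Groth.Agent.Lib.Helper6.BassNG.BNf
import Groth.Agent.Lib.Helper6.BassNG.BNg

set_option autoImplicit false
set_option linter.unusedSectionVars false
set_option linter.unusedVariables false
set_option linter.unusedSimpArgs false
set_option linter.style.haveILetI false
set_option maxHeartbeats 800000

/-!
# Bass numbers at a non-homogeneous prime of a `ℤ`-graded Noetherian ring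

`μ_0(p, M) = 0` and `μ_{i+1}(p, M) = μ_i(p*, M)`.
-/

universe u

namespace Groth.Agent.Lib.Helper6.BassNG

open CategoryTheory Abelian IsLocalRing DirectSum Groth.Agent.Helper8.ExtLoc
  Groth.Agent.Lib.Helper6.Bass0 Groth.Agent.Helper9.GrLCLib Groth.Agent.Lib.Helper6.GrHt

variable {R : Type u} [CommRing R] [IsNoetherianRing R] (ℬ : ℤ → AddSubgroup R) [GradedRing ℬ]
  (p : Ideal R) [hp : p.IsPrime] [hq : (core ℬ p).IsPrime]

local notation "Ap" => Localization.AtPrime p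
local notation "q" => core ℬ p

section XFacts

variable {X : Type u} [AddCommGroup X] [Module R X] (𝒳 : ℤ → AddSubgroup X)
  [DirectSum.Decomposition 𝒳] [SetLike.GradedSMul ℬ 𝒳]

include 𝒳 in
/-- vanishing of `Ext^{n+1}((R/q)_p, X_p)` for *-injective `X` -/
theorem ext_Dp_eq_zero (hX : GrLC.IsStarInj ℬ 𝒳) (n : ℕ)
    (x : Ext (Dp p q) (Yp p X) (n + 1)) : x = 0 := by
  have h1 : ExtVan R X (n + 1) (R ⧸ q) :=
    (extVan_of_isStarInj ℬ 𝒳 hX n).1 q (core_isHomogeneous ℬ p)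
  have h2 := subsingleton_ext_loc_of_subsingleton p.primeCompl (n + 1) (R ⧸ q) X h1
  exact h2.elim _ _

end XFacts

section Step

variable (hnh : ¬ p.IsHomogeneous ℬ)
  {Z X Z' : Type u} [AddCommGroup Z] [Module R Z] [AddCommGroup X] [Module R X]
  [AddCommGroup Z'] [Module R Z']
  (𝒵 : ℤ → AddSubgroup Z) [DirectSum.Decomposition 𝒵] [SetLike.GradedSMul ℬ 𝒵]
  (𝒳 : ℤ → AddSubgroup X) [DirectSum.Decomposition 𝒳] [SetLike.GradedSMul ℬ 𝒳]
  (𝒵' : ℤ → AddSubgroup Z') [DirectSum.Decomposition 𝒵'] [SetLike.GradedSMul ℬ 𝒵']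
  (f : Z →ₗ[R] X) (g : X →ₗ[R] Z') (hf : Function.Injective f) (hg : Function.Surjective g)
  (hex : Function.Exact f g) (hX : GrLC.IsStarInj ℬ 𝒳) (hess : GrLC.IsStarEss 𝒵 𝒳 f)

include hnh 𝒵 𝒳 𝒵' hf hg hex hX hess in
/-- the two identities at `p` provided by one step of a *-injective resolution -/
theorem step_p : GrLC.bassNum p Z 1 = GrLC.bassNum q Z 0 ∧
    ∀ i : ℕ, GrLC.bassNum p Z (i + 2) = GrLC.bassNum p Z' (i + 1) := by
  classical
  have hne : q ≠ p := fun h => hnh ((core_eq_self_iff ℬ p).mp h)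
  have hqp : q ≤ p := core_le ℬ p
  have hqhom : (q).IsHomogeneous ℬ := core_isHomogeneous ℬ p
  obtain ⟨a, hap, haq, hgen0⟩ := exists_gen_mod_core ℬ p hne
  have hhom : ∀ (b : R) (i : ℤ), b ∈ ℬ i → b ∈ p → b ∈ q :=
    fun b i hb hbp => mem_core_of_mem ℬ hb hbp
  have hgen : ∀ g ∈ p, ∃ s c : R, s ∉ p ∧ s * g - c * a ∈ q := by
    intro g₀ hg₀
    obtain ⟨s, c, i, hs, hsq, h⟩ := hgen0 g₀ hg₀
    exact ⟨s, c, fun hsp => hsq (hhom s i hs hsp), h⟩
  obtain ⟨e⟩ := nonempty_residue_iso_Kp p q a hgen hqp hap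
  -- the short exact sequence
  have eq0 : g.comp f = 0 := LinearMap.ext fun x => hex.apply_apply_eq_zero x
  let T := ModuleCat.shortComplexOfCompEqZero f g eq0
  have hT : T.ShortExact := ModuleCat.shortComplex_shortExact T hex hf hg
  have hT' : (T.map (locF p.primeCompl)).ShortExact := hT.map_of_exact (locF p.primeCompl)
  let K : ModuleCat.{u} Ap := ModuleCat.of Ap (ResidueField Ap)
  -- facts on `X`
  have hvanD : ∀ (n : ℕ) (x : Ext (Dp p q) (Yp p X) (n + 1)), x = 0 :=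
    fun n x => ext_Dp_eq_zero ℬ p 𝒳 hX n x
  have hF1 : ∀ (n : ℕ) (x : Ext K (Yp p X) (n + 2)), x = 0 := by
    intro n x
    have h1 : (extEquivLeft e (Yp p X) (n + 2)).symm x = 0 :=
      ext_Kp_eq_zero p q a X haq n (hvanD n) (hvanD (n + 1)) _
    have h2 := congrArg (extEquivLeft e (Yp p X) (n + 2)) h1
    rwa [LinearEquiv.apply_symm_apply, map_zero] at h2
  have hπ : ∀ x : X, (∀ b ∈ q, b • x = 0) → ∃ s : R, s ∉ p ∧ g (s • x) = 0 := by
    intro x hx
    obtain ⟨s, hs, hsx⟩ := exists_smul_mem_range_of_torsion ℬ 𝒵 𝒳 f hess q hqhom p hhom x hx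
    obtain ⟨z, hz⟩ := hsx
    exact ⟨s, hs, by rw [← hz]; exact hex.apply_apply_eq_zero z⟩
  have hF2 : ∀ x : Ext K (Yp p X) 1,
      x.comp (Ext.mk₀ (T.map (locF p.primeCompl)).g) (add_zero 1) = 0 := by
    intro x
    obtain ⟨x', rfl⟩ := (extEquivLeft e (Yp p X) 1).surjective x
    show ((Ext.mk₀ e.hom).comp x' (zero_add 1)).comp
      (Ext.mk₀ ((locF p.primeCompl).map (ModuleCat.ofHom g))) (add_zero 1) = 0
    rw [Ext.comp_assoc_of_third_deg_zero,
      ext_one_comp_eq_zero p q a X haq g (hvanD 0) hπ x', Ext.comp_zero]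
  have hF3 : ∀ x : Ext K (Yp p Z') 0, x = 0 := by
    intro x
    have h0 : GrLC.bassNum p Z' 0 = 0 := bassNum_zero_eq_zero ℬ 𝒵' p hnh
    rw [bassNum_eq_length] at h0
    haveI : Subsingleton (ExtK p Z' 0) := Module.length_eq_zero_iff.mp h0
    exact Subsingleton.elim _ _
  refine ⟨?_, ?_⟩
  · -- `μ_1(p, Z) = μ_0(q, Z)`
    obtain ⟨Λ, y, _, hy1, hy2, hy3⟩ := exists_qBasis ℬ 𝒳 hqhom
    have hy3' : ∀ x : X, (∀ b ∈ q, b • x = 0) →
        ∃ s : R, s ∉ p ∧ ∃ r : Λ →₀ R, s • x = Finsupp.linearCombination R y r := by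
      intro x hx
      obtain ⟨s, ⟨i, hsi⟩, hsq, r, hr⟩ := hy3 x hx
      exact ⟨s, fun hsp => hsq (hhom s i hsi hsp), r, hr⟩
    have hy3'' : ∀ x : X, (∀ b ∈ q, b • x = 0) →
        ∃ s : R, s ∉ q ∧ ∃ r : Λ →₀ R, s • x = Finsupp.linearCombination R y r := by
      intro x hx
      obtain ⟨s, _, hsq, r, hr⟩ := hy3 x hx
      exact ⟨s, hsq, r, hr⟩
    have e1 : GrLC.bassNum p Z 1 = Module.length Ap (Ext K (Yp p X) 1) := by
      rw [bassNum_eq_length]
      exact length_eq_of_postF hT' K 1 (postF_inj_succ hT' K 0 hF3) hF2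
    have e2 : Module.length Ap (Ext K (Yp p X) 1) =
        Module.length Ap (Ext (Kp p q a) (Yp p X) 1) :=
      (length_ext_congr_left e (Yp p X) 1).symm
    have e3 : Module.length Ap (Ext (Kp p q a) (Yp p X) 1) = ENat.card Λ :=
      length_ext_one p q a haq hqp hap hgen y hy1 hy2 hy3' (hvanD 0)
    have e4 : GrLC.bassNum q X 0 = ENat.card Λ :=
      bassNum_zero_eq_card q X (IsNoetherian.noetherian q) y hy1 hy2 hy3''
    have e5 : GrLC.bassNum q Z 0 = GrLC.bassNum q X 0 :=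
      bassNum_zero_eq_of_essential q f hf (essential_of_isStarEss ℬ 𝒵 𝒳 f hess)
    rw [e1, e2, e3, e5, e4]
  · intro i
    rw [bassNum_eq_length, bassNum_eq_length]
    refine (length_eq_of_delta hT' K (i + 1) ?_ (hF1 i)).symm
    intro x₂
    cases i with
    | zero => exact hF2 x₂
    | succ i' =>
      have : x₂ = 0 := hF1 i' x₂
      rw [this, Ext.zero_comp]

include 𝒵 𝒳 𝒵' hf hg hex hX hess in
/-- dimension shifting at the homogeneous prime `q` -/
theorem step_q (i : ℕ) : GrLC.bassNum q Z (i + 1) = GrLC.bassNum q Z' i := by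
  have hqhom : (q).IsHomogeneous ℬ := core_isHomogeneous ℬ p
  refine bassNum_succ_eq q f g hf hg hex ?_ (essential_of_isStarEss ℬ 𝒵 𝒳 f hess) i
  intro j
  exact extK_subsingleton_of_extVan q X (j + 1) ((extVan_of_isStarInj ℬ 𝒳 hX j).1 q hqhom)

end Step

section Main

variable (hnh : ¬ p.IsHomogeneous ℬ)

include hnh in
theorem bassNum_succ_eq_core_aux (i : ℕ) : ∀ Z : GrLC.GMod.{u} ℬ,
    GrLC.bassNum p Z.carrier (i + 1) = GrLC.bassNum q Z.carrier i := by
  induction i with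
  | zero =>
    intro Z
    obtain ⟨X, Z', f, g, hf, hg, hex, hX, hess⟩ := exists_hull_step ℬ Z
    exact (step_p ℬ p hnh Z.gr X.gr Z'.gr f g hf hg hex hX hess).1
  | succ i ih =>
    intro Z
    obtain ⟨X, Z', f, g, hf, hg, hex, hX, hess⟩ := exists_hull_step ℬ Z
    rw [(step_p ℬ p hnh Z.gr X.gr Z'.gr f g hf hg hex hX hess).2 i, ih Z',
      step_q ℬ p Z.gr X.gr Z'.gr f g hf hg hex hX hess i]

variable {M : Type u} [AddCommGroup M] [Module R M] (ℳ : ℤ → AddSubgroup M)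
  [DirectSum.Decomposition ℳ] [SetLike.GradedSMul ℬ ℳ]

include hnh ℳ in
/-- **Bass numbers at a non-homogeneous prime.** -/
theorem bassNum_succ_eq_core (i : ℕ) :
    GrLC.bassNum p M (i + 1) = GrLC.bassNum q M i :=
  bassNum_succ_eq_core_aux ℬ p hnh i (GrLC.GMod.of ℬ M ℳ)

end Main

end Groth.Agent.Lib.Helper6.BassNG
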